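import Groth.Agent.L06.RelProjFlat.Alg
import Groth.Prelude.Def_RelProj2
import Groth.Prelude.Def_FlatMod2
import Mathlib.AlgebraicGeometry.ProjectiveSpectrum.Basic
import Mathlib.AlgebraicGeometry.Morphisms.Flat
import Mathlib.RingTheory.Flat.Localization

/-!
# Flatness of relative Proj and of its twisting sheaves
-/

set_option autoImplicit false

universe u

open CategoryTheory CategoryTheory.Limits AlgebraicGeometry TopologicalSpace Opposite
open scoped HomogeneousIdeal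

noncomputable section

namespace Groth.L06.RelProjFlat

section Proj

variable {A σ : Type u} [CommRing A] [SetLike σ A] [AddSubgroupClass σ A] (𝒜 : ℕ → σ) [GradedRing 𝒜]

/-- `Γ(Spec A₀) → Γ(Proj A)` in terms of `awayToSection`. -/
theorem toSpecZero_appTop :
    (Scheme.ΓSpecIso (CommRingCat.of (𝒜 0))).inv ≫ (Proj.toSpecZero 𝒜).appTop =
      CommRingCat.ofHom (HomogeneousLocalization.fromZeroRingHom 𝒜 _) ≫ Proj.awayToSection 𝒜 1 ≫
        (Proj 𝒜).presheaf.map (eqToHom (Proj.basicOpen_one 𝒜).symm).op := by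
  rw [Proj.toSpecZero, Scheme.Hom.comp_appTop, Scheme.Hom.comp_appTop, Scheme.Hom.comp_appTop,
    Category.assoc, Category.assoc, ← Scheme.ΓSpecIso_inv_naturality_assoc,
    show (Proj.basicOpenToSpec 𝒜 1).appTop = _ from Proj.basicOpenToSpec_app_top 𝒜 1,
    Category.assoc, Category.assoc, Iso.inv_hom_id_assoc]
  haveI : IsIso (⊤ : (Proj 𝒜).Opens).ι.appTop := by
    rw [Scheme.Opens.ι_appTop]
    have : IsIso (homOfLE (x := (⊤ : (Proj 𝒜).Opens).ι ''ᵁ ⊤) le_top).op := by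
      rw [show (homOfLE (x := (⊤ : (Proj 𝒜).Opens).ι ''ᵁ ⊤) le_top) =
        eqToHom (Scheme.Opens.ι_image_top (⊤ : (Proj 𝒜).Opens)) from Subsingleton.elim _ _]
      infer_instance
    exact Functor.map_isIso _ _
  have hinv : (Proj 𝒜).topIso.inv.appTop =
      (Proj 𝒜).presheaf.map
        (eqToHom (Scheme.Opens.ι_image_top (⊤ : (Proj 𝒜).Opens)).symm).op := by
    apply (cancel_epi ((⊤ : (Proj 𝒜).Opens).ι.appTop)).mp
    refine ((Scheme.Hom.comp_appTop _ _).symm.trans ((congrArg Scheme.Hom.appTop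
      (Scheme.toIso_inv_ι _)).trans Scheme.Hom.id_appTop)).trans ?_
    rw [Scheme.Opens.ι_appTop]
    exact ((Proj 𝒜).presheaf.map_id _).symm.trans ((congrArg (Proj 𝒜).presheaf.map
      (Subsingleton.elim _ _)).trans ((Proj 𝒜).presheaf.map_comp _ _))
  congr 2
  rw [hinv]
  simp only [Scheme.Hom.appTop, Scheme.Opens.topIso_inv, Scheme.isoOfEq_inv, Scheme.homOfLE_app]
  exact (congrArg (_ ≫ ·) ((Proj 𝒜).presheaf.map_comp _ _).symm).trans
    (((Proj 𝒜).presheaf.map_comp _ _).symm.trans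
      (congrArg (Proj 𝒜).presheaf.map (Subsingleton.elim _ _)))

theorem one_notMem' (y : ProjectiveSpectrum 𝒜) : (1 : A) ∉ y.asHomogeneousIdeal := fun h =>
  y.isPrime.ne_top ((Ideal.eq_top_iff_one _).mpr h)

/-- Values of the functions coming from degree zero. -/
theorem toSpecZero_val (a : 𝒜 0) (y : ProjectiveSpectrum 𝒜) :
    ((show GrTwist.O (𝒜 := 𝒜) (op ⊤) from (Proj.toSpecZero 𝒜).appTop
      ((Scheme.ΓSpecIso (CommRingCat.of (𝒜 0))).inv a)).1 ⟨y, trivial⟩).val =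
      algebraMap A (GrTwist.Loc 𝒜 y) (a : A) := by
  have h1 := congrArg (fun φ : CommRingCat.of (𝒜 0) ⟶ Γ(Proj 𝒜, ⊤) =>
    ((show GrTwist.O (𝒜 := 𝒜) (op ⊤) from φ a).1 ⟨y, trivial⟩).val) (toSpecZero_appTop 𝒜)
  refine h1.trans ?_
  refine (ProjectiveSpectrum.Proj.awayToSection_apply 𝒜 1
    (HomogeneousLocalization.fromZeroRingHom 𝒜 _ a)
    ⟨y, (Proj.mem_basicOpen _ _ _).2 (one_notMem' 𝒜 y)⟩).trans ?_
  erw [HomogeneousLocalization.val_mk]
  rw [Localization.mk_eq_mk', IsLocalization.map_mk']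
  erw [← Localization.mk_eq_mk']
  rfl

/-- A positive degree element outside a point. -/
theorem exists_pos_notMem (y : ProjectiveSpectrum 𝒜) :
    ∃ (e : ℕ) (s : A), 0 < e ∧ s ∈ 𝒜 e ∧ s ∉ y.asHomogeneousIdeal.toIdeal := by
  classical
  by_contra hne
  push Not at hne
  refine y.not_irrelevant_le ?_
  rw [HomogeneousIdeal.irrelevant_le]
  intro i hi a ha
  exact hne i a hi ha

variable {n : ℤ}

theorem val_smul {V : (Proj 𝒜).Opens} (c : Γ(Proj 𝒜, V)) (t : Γ(GrTwist.twist 𝒜 n, V)) (y : V) :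
    GrTwist.val (c • t) y = ((show GrTwist.O (𝒜 := 𝒜) (op V) from c).1 y).val * GrTwist.val t y :=
  GrTwist.coe_smul_val n y.1 _ _

theorem val_injective {V : (Proj 𝒜).Opens} {s t : Γ(GrTwist.twist 𝒜 n, V)}
    (h : ∀ y : V, GrTwist.val s y = GrTwist.val t y) : s = t :=
  Subtype.ext (funext fun y => Subtype.ext (h y))

theorem isFrac_val {V : (Proj 𝒜).Opens} (t : Γ(GrTwist.twist 𝒜 n, V)) (y : ProjectiveSpectrum 𝒜) (hy : y ∈ V)
    {s₀ : A} {e₀ : ℕ} (hs₀ : s₀ ∈ 𝒜 e₀) (he₀ : 0 < e₀) (hs₀x : s₀ ∉ y.asHomogeneousIdeal.toIdeal) :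
    IsFrac 𝒜 y.asHomogeneousIdeal.toIdeal n (GrTwist.val t ⟨y, hy⟩) := by
  obtain ⟨W, hyW, i, a', b', a, s, hns, hdeg, hval⟩ :=
    (show GrTwist.sectN (𝒜 := 𝒜) n (op V) from t).2 ⟨y, hy⟩
  have hv : GrTwist.val t ⟨y, hy⟩ = Localization.mk (a : A) ⟨s, hns ⟨y, hyW⟩⟩ := hval ⟨y, hyW⟩
  rcases hdeg with hdeg | hzero
  · exact ⟨a', b', a, s, hns ⟨y, hyW⟩, a.2, s.2, hdeg, hv⟩
  · rw [hv, hzero, Localization.mk_zero]
    exact isFrac_zero 𝒜 hs₀ he₀ hs₀x n

/-- A fraction is the value of a section near the point. -/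
theorem exists_val_eq (y : ProjectiveSpectrum 𝒜) {q : GrTwist.Loc 𝒜 y}
    (hq : IsFrac 𝒜 y.asHomogeneousIdeal.toIdeal n q) :
    ∃ (V : (Proj 𝒜).Opens) (hy : y ∈ V) (t : Γ(GrTwist.twist 𝒜 n, V)), GrTwist.val t ⟨y, hy⟩ = q := by
  obtain ⟨i, j, a, s, hs, ha, hsj, hij, rfl⟩ := hq
  refine ⟨Proj.basicOpen 𝒜 s, (Proj.mem_basicOpen _ _ _).2 hs,
    (show GrTwist.sectN (𝒜 := 𝒜) n (op (Proj.basicOpen 𝒜 s)) from
      ⟨fun z => ⟨Localization.mk a ⟨s, (Proj.mem_basicOpen _ _ _).1 z.2⟩,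
        Submodule.subset_span ⟨i, j, ⟨a, ha⟩, ⟨s, hsj⟩, _, hij, rfl⟩⟩,
      fun z => ⟨Proj.basicOpen 𝒜 s, z.2, 𝟙 _, i, j, ⟨a, ha⟩, ⟨s, hsj⟩,
        fun w => (Proj.mem_basicOpen _ _ _).1 w.2, Or.inl hij, fun w => rfl⟩⟩), rfl⟩

end Proj

section Rel

variable {S P : Scheme.{u}} (𝒜 : RelProj.QCGrAlg S) (p : P ⟶ S)
  (chart : ∀ (U : S.Opens) (hU : IsAffineOpen U), (((p ⁻¹ᵁ U : P.Opens) : Scheme.{u}) ≅ Proj (𝒜.deg U hU)))
  (hP : RelProj.IsRelProj 𝒜 p chart)

theorem appLE_congr_hom {X Y : Scheme.{u}} {f g : X ⟶ Y} (e : f = g) (U : Y.Opens) (V : X.Opens)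
    (h : V ≤ f ⁻¹ᵁ U) (h' : V ≤ g ⁻¹ᵁ U) : f.appLE U V h = g.appLE U V h' := by
  subst e; rfl

theorem emb_preimage (U : S.Opens) (hU : IsAffineOpen U) :
    RelProj.emb p chart U hU ⁻¹ᵁ (p ⁻¹ᵁ U) = ⊤ := by
  refine eq_top_iff.2 fun y _ => ?_
  exact ((chart U hU).inv y).2

theorem exists_emb_eq (U : S.Opens) (hU : IsAffineOpen U) {z : P} (hz : p z ∈ U) :
    ∃ y : Proj (𝒜.deg U hU), RelProj.emb p chart U hU y = z := by
  refine ⟨(chart U hU).hom ⟨z, hz⟩, ?_⟩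
  exact congrArg (fun g : ((p ⁻¹ᵁ U : P.Opens) : Scheme.{u}) ⟶ P => g ⟨z, hz⟩)
    (show (chart U hU).hom ≫ RelProj.emb p chart U hU = (p ⁻¹ᵁ U).ι by simp [RelProj.emb])

include hP in
/-- The value of a function of the base at a point of a chart. -/
theorem base_val (U : S.Opens) (hU : IsAffineOpen U) (r : Γ(S, U)) (y : ProjectiveSpectrum (𝒜.deg U hU))
    (hy : RelProj.emb p chart U hU y ∈ p ⁻¹ᵁ U) :
    ((show GrTwist.O (𝒜 := 𝒜.deg U hU) (op _) from
      (RelProj.emb p chart U hU).app (p ⁻¹ᵁ U) (p.app U r)).1 ⟨y, hy⟩).val =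
      algebraMap _ (GrTwist.Loc (𝒜.deg U hU) y) ((𝒜.str.app (op U)).hom r) := by
  have e : RelProj.emb p chart U hU ≫ p =
      (Proj.toSpecZero (𝒜.deg U hU) ≫ Spec.map (𝒜.strZero U hU)) ≫ hU.fromSpec := by
    rw [RelProj.emb, Category.assoc, ← hP.chart_over U hU, Iso.inv_hom_id_assoc, Category.assoc]
  have hle : (⊤ : (Proj (𝒜.deg U hU)).Opens) ≤ (RelProj.emb p chart U hU ≫ p) ⁻¹ᵁ U := fun w _ => by
    have := emb_preimage 𝒜 p chart U hU
    exact this.ge (Set.mem_univ w)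
  have h2 : (RelProj.emb p chart U hU ≫ p).appLE U ⊤ hle =
      𝒜.strZero U hU ≫ (Scheme.ΓSpecIso (CommRingCat.of (𝒜.deg U hU 0))).inv ≫
        (Proj.toSpecZero (𝒜.deg U hU)).appTop := by
    rw [Scheme.ΓSpecIso_inv_naturality_assoc, ← Scheme.Hom.comp_appTop]
    refine (appLE_congr_hom e U ⊤ hle (e ▸ hle)).trans ?_
    rw [← Scheme.Hom.appLE_comp_appLE (Proj.toSpecZero (𝒜.deg U hU) ≫ Spec.map (𝒜.strZero U hU))
      hU.fromSpec U ⊤ ⊤ (hU.fromSpec_preimage_self.ge) le_top]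
    congr 1
    · rw [Scheme.Hom.appLE, hU.fromSpec_app_self, Category.assoc, ← Functor.map_comp]
      exact (congrArg (_ ≫ ·) (((Spec Γ(S, U)).presheaf.congr_map (Subsingleton.elim _ (𝟙 _))).trans
        ((Spec Γ(S, U)).presheaf.map_id _))).trans (Category.comp_id _)
  refine Eq.trans ?_ (toSpecZero_val (𝒜.deg U hU) ((𝒜.strZero U hU).hom r) y)
  have h3 : (show GrTwist.O (𝒜 := 𝒜.deg U hU) (op ⊤) from
      (RelProj.emb p chart U hU ≫ p).appLE U ⊤ hle r).1 ⟨y, trivial⟩ =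
      (show GrTwist.O (𝒜 := 𝒜.deg U hU) (op _) from
        (RelProj.emb p chart U hU).app (p ⁻¹ᵁ U) (p.app U r)).1 ⟨y, hy⟩ := rfl
  rw [← h3, h2]
  rfl

variable {n : ℤ} {L : P.Modules}
  (lam : ∀ (U : S.Opens) (hU : IsAffineOpen U),
    L ⟶ (Scheme.Modules.pushforward (RelProj.emb p chart U hU)).obj (GrTwist.twist (𝒜.deg U hU) n))

/-- The value at `y` of a section, read through the chart. -/
def secVal (U : S.Opens) (hU : IsAffineOpen U) (y : ProjectiveSpectrum (𝒜.deg U hU)) (W : P.Opens)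
    (hW : RelProj.emb p chart U hU y ∈ W) : Γ(L, W) →+ GrTwist.Loc (𝒜.deg U hU) y :=
  AddMonoidHom.mk' (fun s => GrTwist.val (V := RelProj.emb p chart U hU ⁻¹ᵁ W)
    (show Γ(GrTwist.twist (𝒜.deg U hU) n, RelProj.emb p chart U hU ⁻¹ᵁ W) from (lam U hU).app W s) ⟨y, hW⟩)
    fun s t => by rw [map_add]; rfl

theorem secVal_res (U : S.Opens) (hU : IsAffineOpen U) (y : ProjectiveSpectrum (𝒜.deg U hU))
    {W W' : P.Opens} (h : W' ≤ W) (hW' : RelProj.emb p chart U hU y ∈ W') (s : Γ(L, W)) :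
    secVal 𝒜 p chart lam U hU y W' hW' (L.presheaf.map (homOfLE h).op s) =
      secVal 𝒜 p chart lam U hU y W (h hW') s := by
  have := congrArg (fun φ => φ s) ((lam U hU).mapPresheaf.naturality (homOfLE h).op)
  exact congrArg (fun t => GrTwist.val (V := RelProj.emb p chart U hU ⁻¹ᵁ W')
    (show Γ(GrTwist.twist (𝒜.deg U hU) n, RelProj.emb p chart U hU ⁻¹ᵁ W') from t) ⟨y, hW'⟩) this

/-- The value at `y` of the germ of a section, read through the chart. -/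
def stalkVal (U : S.Opens) (hU : IsAffineOpen U) (y : ProjectiveSpectrum (𝒜.deg U hU)) :
    L.presheaf.stalk (RelProj.emb p chart U hU y) ⟶ AddCommGrpCat.of (GrTwist.Loc (𝒜.deg U hU) y) :=
  colimit.desc ((OpenNhds.inclusion (RelProj.emb p chart U hU y)).op ⋙ L.presheaf)
    { pt := AddCommGrpCat.of (GrTwist.Loc (𝒜.deg U hU) y)
      ι :=
        { app := fun W => AddCommGrpCat.ofHom (secVal 𝒜 p chart lam U hU y W.unop.1 W.unop.2)
          naturality := fun W W' i => AddCommGrpCat.ext fun s =>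
            secVal_res 𝒜 p chart lam U hU y (leOfHom i.unop) W'.unop.2 s } }

theorem stalkVal_germ (U : S.Opens) (hU : IsAffineOpen U) (y : ProjectiveSpectrum (𝒜.deg U hU)) (W : P.Opens)
    (hW : RelProj.emb p chart U hU y ∈ W) (s : Γ(L, W)) :
    stalkVal 𝒜 p chart lam U hU y (L.presheaf.germ W _ hW s) =
      secVal 𝒜 p chart lam U hU y W hW s :=
  ConcreteCategory.congr_hom
    (colimit.ι_desc (F := (OpenNhds.inclusion (RelProj.emb p chart U hU y)).op ⋙ L.presheaf)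
      { pt := AddCommGrpCat.of (GrTwist.Loc (𝒜.deg U hU) y)
        ι :=
          { app := fun W => AddCommGrpCat.ofHom (secVal 𝒜 p chart lam U hU y W.unop.1 W.unop.2)
            naturality := fun W W' i => AddCommGrpCat.ext fun s =>
              secVal_res 𝒜 p chart lam U hU y (leOfHom i.unop) W'.unop.2 s } }
      (op (⟨W, hW⟩ : OpenNhds _))) s

variable (U : S.Opens) (hU : IsAffineOpen U) (y : ProjectiveSpectrum (𝒜.deg U hU))

theorem secVal_smul (W : P.Opens) (hW : RelProj.emb p chart U hU y ∈ W) (c : Γ(P, W)) (s : Γ(L, W)) :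
    secVal 𝒜 p chart lam U hU y W hW (c • s) =
      ((show GrTwist.O (𝒜 := 𝒜.deg U hU) (op _) from (RelProj.emb p chart U hU).app W c).1 ⟨y, hW⟩).val *
        secVal 𝒜 p chart lam U hU y W hW s := by
  have h := Scheme.Modules.Hom.app_smul (lam U hU) c s
  exact (congrArg (fun t => GrTwist.val (V := RelProj.emb p chart U hU ⁻¹ᵁ W)
    (show Γ(GrTwist.twist (𝒜.deg U hU) n, RelProj.emb p chart U hU ⁻¹ᵁ W) from t) ⟨y, hW⟩) h).trans
    (val_smul (𝒜.deg U hU) _ _ _)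

variable (hL : RelProj.IsRelTwist 𝒜 p chart n L lam)

include hP hL in
/-- The stalks of `O(n)` are flat over the base when the pieces are flat in large degrees. -/
theorem flat_stalk {d₀ : ℕ}
    (hflat : letI := (𝒜.str.app (op U)).hom.toAlgebra
      ∀ d, d₀ ≤ d →
        Module.Flat Γ(S, U) ↥(Submodule.span Γ(S, U) (𝒜.deg U hU d : Set (𝒜.presheaf.obj (op U)))))
    (hyU : RelProj.emb p chart U hU y ∈ p ⁻¹ᵁ U) :
    FlatMod.IsFlatOverAt p L (RelProj.emb p chart U hU y) := by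
  let z : P := RelProj.emb p chart U hU y
  letI : Algebra Γ(S, U) (𝒜.presheaf.obj (op U)) := (𝒜.str.app (op U)).hom.toAlgebra
  have h0 : ∀ r : Γ(S, U), algebraMap Γ(S, U) (𝒜.presheaf.obj (op U)) r ∈ 𝒜.deg U hU 0 :=
    fun r => 𝒜.str_mem U hU r
  obtain ⟨e₀, s₀, he₀, hs₀, hs₀x⟩ := exists_pos_notMem (𝒜.deg U hU) y
  have hflat' : ∀ d, d₀ ≤ d → Module.Flat Γ(S, U) (piece (𝒜.deg U hU) h0 d) := fun d hd => by
    have h := hflat d hd
    rwa [show Submodule.span Γ(S, U) (𝒜.deg U hU d : Set (𝒜.presheaf.obj (op U))) =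
      piece (𝒜.deg U hU) h0 d from Submodule.span_eq (piece (𝒜.deg U hU) h0 d)] at h
  haveI := flat_fracMod (h0 := h0) (𝒜.deg U hU) hs₀ he₀ hs₀x hflat' n
  letI := FlatMod.moduleStalkOver p L z
  letI := S.presheaf.algebra_section_stalk (⟨p z, hyU⟩ : U)
  haveI := hU.isLocalization_stalk ⟨p z, hyU⟩
  letI : Module Γ(S, U) (L.presheaf.stalk z) :=
    Module.compHom _ (S.presheaf.germ U (p z) hyU).hom
  haveI : IsScalarTower Γ(S, U) (S.presheaf.stalk (p z)) (L.presheaf.stalk z) :=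
    IsScalarTower.of_algebraMap_smul fun _ _ => rfl
  let φ : L.presheaf.stalk z →+ GrTwist.Loc (𝒜.deg U hU) y := (stalkVal 𝒜 p chart lam U hU y).hom
  have hsmul : ∀ (r : Γ(S, U)) (m : L.presheaf.stalk z), φ (r • m) = r • φ m := by
    intro r m
    obtain ⟨W, hW, s, rfl⟩ := L.presheaf.exists_germ_eq m
    have hW' : z ∈ W ⊓ p ⁻¹ᵁ U := ⟨hW, hyU⟩
    have hs := (TopCat.Presheaf.germ_res_apply L.presheaf (homOfLE inf_le_left) z hW' s).symm
    rw [hs]
    generalize L.presheaf.map (homOfLE (inf_le_left : W ⊓ p ⁻¹ᵁ U ≤ W)).op s = s'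
    have e : r • (L.presheaf.germ _ z hW' s') = L.presheaf.germ _ z hW'
        (P.presheaf.map (homOfLE (inf_le_right : W ⊓ p ⁻¹ᵁ U ≤ p ⁻¹ᵁ U)).op (p.app U r) • s') := by
      refine Eq.trans ?_ (PresheafOfModules.germ_smul (R := P.presheaf)
        (show PresheafOfModules (P.presheaf ⋙ forget₂ CommRingCat RingCat) from L.val) z _ hW' _ s').symm
      show p.stalkMap z (S.presheaf.germ U (p z) hyU r) • L.presheaf.germ _ z hW' s' = _
      rw [Scheme.Hom.germ_stalkMap_apply p U z hyU r, TopCat.Presheaf.germ_res_apply]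
      rfl
    rw [e]
    refine (stalkVal_germ 𝒜 p chart lam U hU y _ hW' _).trans ?_
    rw [secVal_smul, Algebra.smul_def]
    refine congrArg₂ (· * ·) ?_ (stalkVal_germ 𝒜 p chart lam U hU y _ hW' _).symm
    refine Eq.trans ?_ ((base_val 𝒜 p chart hP U hU r y hyU).trans
      (IsScalarTower.algebraMap_apply Γ(S, U) (𝒜.presheaf.obj (op U)) _ r).symm)
    exact congrArg (fun t => HomogeneousLocalization.val t)
      (congrArg (fun g => (show GrTwist.O (𝒜 := 𝒜.deg U hU) (op _) from g (p.app U r)).1 ⟨y, hW'⟩)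
        ((RelProj.emb p chart U hU).naturality (homOfLE (inf_le_right : W ⊓ p ⁻¹ᵁ U ≤ p ⁻¹ᵁ U)).op))
  have hinj : Function.Injective φ := by
    refine (injective_iff_map_eq_zero φ).2 fun m hm => ?_
    obtain ⟨W, hW, s, rfl⟩ := L.presheaf.exists_germ_eq m
    have hv : secVal 𝒜 p chart lam U hU y W hW s = 0 :=
      (stalkVal_germ 𝒜 p chart lam U hU y W hW s).symm.trans hm
    let t : Γ(GrTwist.twist (𝒜.deg U hU) n, RelProj.emb p chart U hU ⁻¹ᵁ W) := (lam U hU).app W s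
    obtain ⟨V, hyV, i, a', b', a, b, hnb, hdeg, hval⟩ :=
      (show GrTwist.sectN (𝒜 := 𝒜.deg U hU) n (op _) from t).2 ⟨y, hW⟩
    have hv' : (Localization.mk (a : 𝒜.presheaf.obj (op U)) ⟨b, hnb ⟨y, hyV⟩⟩ :
        GrTwist.Loc (𝒜.deg U hU) y) = 0 := (hval ⟨y, hyV⟩).symm.trans hv
    rw [← Localization.mk_zero (1 : y.asHomogeneousIdeal.toIdeal.primeCompl), Localization.mk_eq_mk_iff,
      Localization.r_iff_exists] at hv'
    obtain ⟨⟨c, hc⟩, hc'⟩ := hv'
    have hca : c * (a : 𝒜.presheaf.obj (op U)) = 0 := by simpa using hc'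
    let V' : (Proj (𝒜.deg U hU)).Opens := V ⊓ Proj.basicOpen (𝒜.deg U hU) c
    have hyV' : y ∈ V' := ⟨hyV, (Proj.mem_basicOpen _ _ _).2 hc⟩
    let W' : P.Opens := RelProj.emb p chart U hU ''ᵁ V'
    have hzW' : z ∈ W' := ⟨y, hyV', rfl⟩
    have hW'W : W' ≤ W := by
      rintro _ ⟨w, hw, rfl⟩
      exact i.le hw.1
    have hW'U : W' ≤ p ⁻¹ᵁ U := by
      rintro _ ⟨w, _, rfl⟩
      exact (emb_preimage 𝒜 p chart U hU).ge (Set.mem_univ w)
    have hzero : L.presheaf.map (homOfLE hW'W).op s = 0 := by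
      refine (hL.bijective U hU W' hW'U).injective ?_
      rw [map_zero]
      refine val_injective (𝒜.deg U hU) (V := RelProj.emb p chart U hU ⁻¹ᵁ W') fun w => ?_
      obtain ⟨w, hw⟩ := w
      refine (secVal_res 𝒜 p chart lam U hU w hW'W hw s).trans (Eq.trans ?_ (?_ : (0 : GrTwist.Loc (𝒜.deg U hU) w) = _))
      · have hw' : w ∈ V' := by
          obtain ⟨w', hw', hww'⟩ := hw
          rwa [(RelProj.emb p chart U hU).isOpenEmbedding.injective hww'] at hw'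
        haveI : w.asHomogeneousIdeal.toIdeal.IsPrime := ProjectiveSpectrum.isPrime w
        refine (hval ⟨w, hw'.1⟩).trans ?_
        rw [← Localization.mk_zero (1 : w.asHomogeneousIdeal.toIdeal.primeCompl), Localization.mk_eq_mk_iff,
          Localization.r_iff_exists]
        exact ⟨⟨c, (Proj.mem_basicOpen _ _ _).1 hw'.2⟩, by simpa using hca⟩
      · rfl
    have hz := TopCat.Presheaf.germ_res_apply L.presheaf (homOfLE hW'W) z hzW' s
    rw [hzero, map_zero] at hz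
    exact hz.symm
  have hrange : ∀ m, φ m ∈ fracMod (𝒜.deg U hU) h0 hs₀ he₀ hs₀x n := by
    intro m
    obtain ⟨W, hW, s, rfl⟩ := L.presheaf.exists_germ_eq m
    show IsFrac _ _ _ (stalkVal 𝒜 p chart lam U hU y _)
    rw [stalkVal_germ]
    exact isFrac_val (𝒜.deg U hU) _ y hW hs₀ he₀ hs₀x
  have hsurj : ∀ q ∈ fracMod (𝒜.deg U hU) h0 hs₀ he₀ hs₀x n, ∃ m, φ m = q := by
    intro q hq
    obtain ⟨V, hyV, t, ht⟩ := exists_val_eq (𝒜.deg U hU) y hq
    let W : P.Opens := RelProj.emb p chart U hU ''ᵁ V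
    have hzW : z ∈ W := ⟨y, hyV, rfl⟩
    have hWU : W ≤ p ⁻¹ᵁ U := by
      rintro _ ⟨w, _, rfl⟩
      exact (emb_preimage 𝒜 p chart U hU).ge (Set.mem_univ w)
    have hle : RelProj.emb p chart U hU ⁻¹ᵁ W ≤ V := ((RelProj.emb p chart U hU).preimage_image_eq V).le
    obtain ⟨s, hs⟩ := (hL.bijective U hU W hWU).surjective
      ((GrTwist.twist (𝒜.deg U hU) n).presheaf.map (homOfLE hle).op t)
    refine ⟨L.presheaf.germ W z hzW s, ?_⟩
    refine (stalkVal_germ 𝒜 p chart lam U hU y W hzW s).trans (Eq.trans ?_ ht)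
    exact congrArg (fun v => GrTwist.val (V := RelProj.emb p chart U hU ⁻¹ᵁ W)
      (show Γ(GrTwist.twist (𝒜.deg U hU) n, RelProj.emb p chart U hU ⁻¹ᵁ W) from v) ⟨y, hzW⟩) hs
  let Φ : L.presheaf.stalk z →ₗ[Γ(S, U)] fracMod (𝒜.deg U hU) h0 hs₀ he₀ hs₀x n :=
    { toFun := fun m => ⟨φ m, hrange m⟩
      map_add' := fun a b => Subtype.ext (map_add φ a b)
      map_smul' := fun r a => Subtype.ext (hsmul r a) }
  have hΦ : Function.Bijective Φ :=
    ⟨fun a b h => hinj (congrArg Subtype.val h), fun q => (hsurj q.1 q.2).imp fun m hm => Subtype.ext hm⟩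
  show Module.Flat (S.presheaf.stalk (p z)) (L.presheaf.stalk z)
  rw [Module.flat_iff_of_isLocalization (R := Γ(S, U)) (S.presheaf.stalk (p z))
    (hU.primeIdealOf ⟨p z, hyU⟩).asIdeal.primeCompl]
  exact Module.Flat.of_linearEquiv (LinearEquiv.ofBijective Φ hΦ)

omit lam in
include hP in
/-- `p` is flat when the pieces are flat in large degrees. -/
theorem flat_stalkMap {d₀ : ℕ}
    (hflat : letI := (𝒜.str.app (op U)).hom.toAlgebra
      ∀ d, d₀ ≤ d →
        Module.Flat Γ(S, U) ↥(Submodule.span Γ(S, U) (𝒜.deg U hU d : Set (𝒜.presheaf.obj (op U)))))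
    (hyU : RelProj.emb p chart U hU y ∈ p ⁻¹ᵁ U) :
    (p.stalkMap (RelProj.emb p chart U hU y)).hom.Flat := by
  let z : P := RelProj.emb p chart U hU y
  letI : Algebra Γ(S, U) (𝒜.presheaf.obj (op U)) := (𝒜.str.app (op U)).hom.toAlgebra
  have h0 : ∀ r : Γ(S, U), algebraMap Γ(S, U) (𝒜.presheaf.obj (op U)) r ∈ 𝒜.deg U hU 0 :=
    fun r => 𝒜.str_mem U hU r
  obtain ⟨e₀, s₀, he₀, hs₀, hs₀x⟩ := exists_pos_notMem (𝒜.deg U hU) y
  have hflat' : ∀ d, d₀ ≤ d → Module.Flat Γ(S, U) (piece (𝒜.deg U hU) h0 d) := fun d hd => by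
    have h := hflat d hd
    rwa [show Submodule.span Γ(S, U) (𝒜.deg U hU d : Set (𝒜.presheaf.obj (op U))) =
      piece (𝒜.deg U hU) h0 d from Submodule.span_eq (piece (𝒜.deg U hU) h0 d)] at h
  haveI := flat_fracMod (h0 := h0) (𝒜.deg U hU) hs₀ he₀ hs₀x hflat' 0
  letI : Algebra (S.presheaf.stalk (p z)) (P.presheaf.stalk z) := (p.stalkMap z).hom.toAlgebra
  letI := S.presheaf.algebra_section_stalk (⟨p z, hyU⟩ : U)
  haveI := hU.isLocalization_stalk ⟨p z, hyU⟩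
  letI : Algebra Γ(S, U) (P.presheaf.stalk z) :=
    ((p.stalkMap z).hom.comp (S.presheaf.germ U (p z) hyU).hom).toAlgebra
  haveI : IsScalarTower Γ(S, U) (S.presheaf.stalk (p z)) (P.presheaf.stalk z) :=
    IsScalarTower.of_algebraMap_eq fun _ => rfl
  let e := (Proj.stalkIso' (𝒜.deg U hU) y)
  let ψ : P.presheaf.stalk z →+* GrTwist.Loc (𝒜.deg U hU) y :=
    (algebraMap (GrTwist.A0 (𝒜.deg U hU) y) (GrTwist.Loc (𝒜.deg U hU) y)).comp
      (e.toRingHom.comp ((RelProj.emb p chart U hU).stalkMap y).hom)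
  have hbij : Function.Bijective ((RelProj.emb p chart U hU).stalkMap y) :=
    (ConcreteCategory.isIso_iff_bijective _).1
      (inferInstanceAs (IsIso ((RelProj.emb p chart U hU).stalkMap (show ↥(Proj (𝒜.deg U hU)) from y))))
  have hψ : ∀ r : Γ(S, U), ψ (algebraMap Γ(S, U) (P.presheaf.stalk z) r) = algebraMap Γ(S, U) _ r := by
    intro r
    refine Eq.trans ?_ ((base_val 𝒜 p chart hP U hU r y hyU).trans
      (IsScalarTower.algebraMap_apply Γ(S, U) (𝒜.presheaf.obj (op U)) _ r).symm)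
    show ((Proj.stalkIso' (𝒜.deg U hU) y) ((RelProj.emb p chart U hU).stalkMap y
      (p.stalkMap z (S.presheaf.germ U (p z) hyU r)))).val = _
    rw [Scheme.Hom.germ_stalkMap_apply p U z hyU r,
      Scheme.Hom.germ_stalkMap_apply (RelProj.emb p chart U hU) (p ⁻¹ᵁ U) y hyU]
    exact congrArg HomogeneousLocalization.val (Proj.stalkIso'_germ (𝒜.deg U hU) _ y hyU _)
  have hrange : ∀ m, ψ m ∈ fracMod (𝒜.deg U hU) h0 hs₀ he₀ hs₀x 0 := by
    intro m
    obtain ⟨c, hc⟩ := HomogeneousLocalization.mk_surjective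
      (e (((RelProj.emb p chart U hU).stalkMap y).hom m))
    refine ⟨c.deg, c.deg, c.num, c.den, c.den_mem, c.num.2, c.den.2, by simp, ?_⟩
    show (e (((RelProj.emb p chart U hU).stalkMap y).hom m)).val = _
    rw [← hc, HomogeneousLocalization.val_mk]
  let Φ : P.presheaf.stalk z →ₗ[Γ(S, U)] fracMod (𝒜.deg U hU) h0 hs₀ he₀ hs₀x 0 :=
    { toFun := fun m => ⟨ψ m, hrange m⟩
      map_add' := fun a b => Subtype.ext (map_add ψ a b)
      map_smul' := fun r a => Subtype.ext (by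
        show ψ (r • a) = r • ψ a
        rw [Algebra.smul_def, map_mul, hψ, Algebra.smul_def]) }
  have hΦ : Function.Bijective Φ := by
    refine ⟨fun a b h => hbij.1 (e.injective (HomogeneousLocalization.val_injective _ (congrArg Subtype.val h))),
      fun q => ?_⟩
    obtain ⟨i, j, a, s, hs, ha, hsj, hij, hq⟩ := q.2
    obtain rfl : i = j := by omega
    obtain ⟨m, hm⟩ := hbij.2 (e.symm (HomogeneousLocalization.mk ⟨i, ⟨a, ha⟩, ⟨s, hsj⟩, hs⟩))
    refine ⟨m, Subtype.ext (Eq.trans ?_ hq.symm)⟩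
    show (e (((RelProj.emb p chart U hU).stalkMap y).hom m)).val = _
    erw [hm, e.apply_symm_apply, HomogeneousLocalization.val_mk]
  show Module.Flat (S.presheaf.stalk (p z)) (P.presheaf.stalk z)
  rw [Module.flat_iff_of_isLocalization (R := Γ(S, U)) (S.presheaf.stalk (p z))
    (hU.primeIdealOf ⟨p z, hyU⟩).asIdeal.primeCompl]
  exact Module.Flat.of_linearEquiv (LinearEquiv.ofBijective Φ hΦ)

end Rel

end Groth.L06.RelProjFlat
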