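import Mathlib.RingTheory.Flat.EquationalCriterion
import Mathlib.RingTheory.GradedAlgebra.Basic
import Mathlib.RingTheory.Localization.AtPrime.Basic
import Mathlib.Algebra.Algebra.Basic

/-!
# Flatness of the module of degree `n` fractions of a graded ring at a prime

If the pieces of a graded `R`-algebra `A` are flat over `R` in large degrees, then so is the module of
fractions `a / s`, `deg a = deg s + n`, `s ∉ x`, for any prime `x` not containing all elements of
positive degree.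
-/

set_option autoImplicit false

universe u

noncomputable section

namespace Groth.L06.RelProjFlat

variable {R A σ : Type u} [CommRing R] [CommRing A] [Algebra R A] [SetLike σ A] [AddSubgroupClass σ A]
  (𝒜 : ℕ → σ) [GradedRing 𝒜] (h0 : ∀ r : R, algebraMap R A r ∈ 𝒜 0)
  (x : Ideal A) [x.IsPrime]

include h0 in
theorem smul_mem {d : ℕ} (r : R) {a : A} (ha : a ∈ 𝒜 d) : r • a ∈ 𝒜 d := by
  rw [Algebra.smul_def]
  simpa using SetLike.mul_mem_graded (h0 r) ha

/-- The degree `d` piece as an `R`-submodule. -/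
def piece (d : ℕ) : Submodule R A where
  carrier := {a | a ∈ 𝒜 d}
  zero_mem' := zero_mem (𝒜 d)
  add_mem' := fun ha hb => add_mem (s := 𝒜 d) ha hb
  smul_mem' := fun r _ ha => smul_mem 𝒜 h0 r ha

/-- `q` is a fraction of degree `n` at `x`. -/
def IsFrac (n : ℤ) (q : Localization.AtPrime x) : Prop :=
  ∃ (i j : ℕ) (a s : A) (hs : s ∉ x), a ∈ 𝒜 i ∧ s ∈ 𝒜 j ∧ (i : ℤ) = j + n ∧
    q = Localization.mk a ⟨s, hs⟩

variable {x}

theorem one_notMem : (1 : A) ∉ x := fun h =>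
  (inferInstance : x.IsPrime).ne_top ((Ideal.eq_top_iff_one x).2 h)

theorem mul_notMem {a b : A} (ha : a ∉ x) (hb : b ∉ x) : a * b ∉ x := fun h =>
  ((inferInstance : x.IsPrime).mem_or_mem h).elim ha hb

theorem pow_notMem {a : A} (ha : a ∉ x) (k : ℕ) : a ^ k ∉ x := fun h =>
  ha ((inferInstance : x.IsPrime).mem_of_pow_mem k h)

theorem mk_eq_mk_mul {a c : A} {s t : A} (hs : s ∉ x) (hc : c ∉ x) (ht : t ∉ x) (h : s * c = t) :
    (Localization.mk a ⟨s, hs⟩ : Localization.AtPrime x) = Localization.mk (a * c) ⟨t, ht⟩ := by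
  subst h
  rw [Localization.mk_eq_mk_iff, Localization.r_iff_exists]
  exact ⟨1, by simp only [OneMemClass.coe_one, one_mul]; ring⟩

theorem smul_mk' (r : R) (a : A) (s : x.primeCompl) :
    r • (Localization.mk a s : Localization.AtPrime x) = Localization.mk (r • a) s :=
  Localization.smul_mk r a s

theorem sum_mk {ι : Type*} (F : Finset ι) (b : ι → A) (s : x.primeCompl) :
    ∑ i ∈ F, (Localization.mk (b i) s : Localization.AtPrime x) = Localization.mk (∑ i ∈ F, b i) s :=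
  (map_sum (AddMonoidHom.mk' (fun a => (Localization.mk a s : Localization.AtPrime x))
    (fun a b => (Localization.add_mk_self a s b).symm)) b F).symm

variable {s₀ : A} {e₀ : ℕ} (hs₀ : s₀ ∈ 𝒜 e₀) (he₀ : 0 < e₀) (hs₀x : s₀ ∉ x)

include hs₀ he₀ hs₀x in
/-- The fractions of degree `n` form an `R`-submodule. -/
theorem isFrac_zero (n : ℤ) : IsFrac 𝒜 x n 0 := by
  refine ⟨((n.natAbs * e₀ : ℕ) + n).toNat, n.natAbs * e₀, 0, s₀ ^ n.natAbs, pow_notMem hs₀x _,
    zero_mem _, ?_, ?_, (Localization.mk_zero _).symm⟩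
  · simpa using SetLike.pow_mem_graded n.natAbs hs₀
  · have h : n.natAbs ≤ n.natAbs * e₀ := Nat.le_mul_of_pos_right _ he₀
    omega

/-- The submodule of fractions of degree `n`. -/
def fracMod (n : ℤ) : Submodule R (Localization.AtPrime x) where
  carrier := {q | IsFrac 𝒜 x n q}
  zero_mem' := isFrac_zero 𝒜 hs₀ he₀ hs₀x n
  add_mem' := by
    rintro p q ⟨i, j, a, s, hs, ha, hsj, hij, rfl⟩ ⟨i', j', b, t, ht, hb, htj, hij', rfl⟩
    refine ⟨j + i', j + j', s * b + t * a, s * t, mul_notMem hs ht,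
      add_mem (SetLike.mul_mem_graded hsj hb) ?_, SetLike.mul_mem_graded hsj htj,
      by push_cast; omega, ?_⟩
    · have e : j' + i = j + i' := by omega
      exact e ▸ SetLike.mul_mem_graded htj ha
    · exact Localization.add_mk a ⟨s, hs⟩ b ⟨t, ht⟩
  smul_mem' := by
    rintro r q ⟨i, j, a, s, hs, ha, hsj, hij, rfl⟩
    exact ⟨i, j, r • a, s, hs, smul_mem 𝒜 h0 r ha, hsj, hij, smul_mk' r a _⟩

include hs₀ he₀ hs₀x in
/-- Finitely many fractions of degree `n` have a common denominator of large degree. -/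
theorem exists_common {l : ℕ} {n : ℤ} (q : Fin l → Localization.AtPrime x)
    (hq : ∀ k, IsFrac 𝒜 x n (q k)) (d₀ : ℕ) :
    ∃ (e D : ℕ) (T : A) (hT : T ∉ x) (b : Fin l → A), T ∈ 𝒜 D ∧ (e : ℤ) = D + n ∧ d₀ ≤ e ∧
      (∀ k, b k ∈ 𝒜 e) ∧ ∀ k, q k = Localization.mk (b k) ⟨T, hT⟩ := by
  classical
  choose i j a s hs ha hsj hij hqe using hq
  obtain ⟨M, hM⟩ : ∃ M : ℕ, d₀ + n.natAbs ≤ M * e₀ :=
    ⟨d₀ + n.natAbs, Nat.le_mul_of_pos_right _ he₀⟩
  have hprod : ∀ F : Finset (Fin l), ∏ k ∈ F, s k ∉ x := fun F =>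
    Finset.prod_induction s (· ∉ x) (fun _ _ => mul_notMem) one_notMem (fun k _ => hs k)
  obtain ⟨D, hD⟩ : ∃ D : ℕ, D = (∑ k, j k) + M * e₀ := ⟨_, rfl⟩
  have hsM : s₀ ^ M ∈ 𝒜 (M * e₀) := by simpa using SetLike.pow_mem_graded M hs₀
  refine ⟨((D : ℤ) + n).toNat, D, (∏ k, s k) * s₀ ^ M,
    mul_notMem (hprod _) (pow_notMem hs₀x _),
    fun k => a k * ((∏ m ∈ Finset.univ.erase k, s m) * s₀ ^ M), ?_, by omega, by omega,
    fun k => ?_, fun k => ?_⟩
  · rw [hD]
    exact SetLike.mul_mem_graded (SetLike.prod_mem_graded 𝒜 j s fun k _ => hsj k) hsM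
  · have h1 := Finset.sum_erase_add Finset.univ j (Finset.mem_univ k)
    have h2 := hij k
    have e : ((D : ℤ) + n).toNat = i k + ((∑ m ∈ Finset.univ.erase k, j m) + M * e₀) := by omega
    rw [e]
    exact SetLike.mul_mem_graded (ha k)
      (SetLike.mul_mem_graded (SetLike.prod_mem_graded 𝒜 j s fun m _ => hsj m) hsM)
  · rw [hqe k]
    refine mk_eq_mk_mul (hs k) (mul_notMem (hprod _) (pow_notMem hs₀x _)) _ ?_
    rw [← mul_assoc, Finset.mul_prod_erase _ _ (Finset.mem_univ k)]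

variable {𝒜} in
/-- An annihilator outside `x` of a homogeneous element may be taken homogeneous. -/
theorem exists_homogeneous_annihilator {e : ℕ} {B u : A} (hB : B ∈ 𝒜 e) (hu : u ∉ x)
    (huB : u * B = 0) : ∃ (k : ℕ) (w : A), w ∈ 𝒜 k ∧ w ∉ x ∧ w * B = 0 := by
  classical
  by_contra hne
  push Not at hne
  refine hu ?_
  rw [← DirectSum.sum_support_decompose 𝒜 u]
  refine sum_mem fun k _ => ?_
  by_contra hk
  refine hne k _ (SetLike.coe_mem _) hk ?_
  rw [← DirectSum.coe_decompose_mul_add_of_right_mem 𝒜 hB, huB]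
  simp

variable {h0}

/-- **Main lemma.** -/
theorem flat_fracMod {d₀ : ℕ} (hflat : ∀ d, d₀ ≤ d → Module.Flat R (piece 𝒜 h0 d)) (n : ℤ) :
    Module.Flat R (fracMod 𝒜 h0 hs₀ he₀ hs₀x n) := by
  refine Module.Flat.of_forall_isTrivialRelation fun {l f q} hrel => ?_
  obtain ⟨e, D, T, hT, b, hTD, heD, -, hb, hqb⟩ :=
    exists_common 𝒜 hs₀ he₀ hs₀x (fun k => (q k).1) (fun k => (q k).2) d₀
  have hB : ∑ k, f k • b k ∈ 𝒜 e := sum_mem fun k _ => smul_mem 𝒜 h0 _ (hb k)
  have hzero : (Localization.mk (∑ k, f k • b k) ⟨T, hT⟩ : Localization.AtPrime x) = 0 := by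
    rw [← sum_mk]
    refine Eq.trans (Finset.sum_congr rfl fun k _ => ?_)
      ((Submodule.coe_sum _ _ _).symm.trans (congrArg Subtype.val hrel))
    rw [Submodule.coe_smul, hqb k, smul_mk']
  rw [← Localization.mk_zero (1 : x.primeCompl), Localization.mk_eq_mk_iff,
    Localization.r_iff_exists] at hzero
  obtain ⟨⟨u, hu⟩, hu'⟩ := hzero
  have huB : u * ∑ k, f k • b k = 0 := by simpa using hu'
  obtain ⟨k, w, hw, hwx, hwB⟩ := exists_homogeneous_annihilator hB hu huB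
  -- multiply by a high power of `s₀`
  obtain ⟨M, hM⟩ : ∃ M : ℕ, d₀ ≤ M * e₀ := ⟨d₀, Nat.le_mul_of_pos_right _ he₀⟩
  have hw'm : w * s₀ ^ M ∈ 𝒜 (k + M * e₀) := by
    simpa using SetLike.mul_mem_graded hw (SetLike.pow_mem_graded M hs₀)
  have hw'x : w * s₀ ^ M ∉ x := mul_notMem hwx (pow_notMem hs₀x _)
  have hw'B : w * s₀ ^ M * ∑ m, f m • b m = 0 := by
    rw [mul_right_comm, hwB, zero_mul]
  generalize w * s₀ ^ M = w' at hw'm hw'x hw'B
  let c : Fin l → piece 𝒜 h0 (k + M * e₀ + e) := fun m =>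
    ⟨w' * b m, show w' * b m ∈ 𝒜 _ from SetLike.mul_mem_graded hw'm (hb m)⟩
  have hc : ∑ m, f m • c m = 0 := by
    apply Subtype.ext
    rw [Submodule.coe_sum, ZeroMemClass.coe_zero, ← hw'B, Finset.mul_sum]
    exact Finset.sum_congr rfl fun m _ => (Submodule.coe_smul _ _).trans (mul_smul_comm _ _ _).symm
  haveI := hflat (k + M * e₀ + e) (by omega)
  obtain ⟨κ, α, z, hz, hα⟩ := Module.Flat.isTrivialRelation_of_sum_smul_eq_zero hc
  have hden : w' * T ∉ x := mul_notMem hw'x hT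
  refine ⟨κ, α, fun m => ⟨Localization.mk (z m : A) ⟨w' * T, hden⟩,
    k + M * e₀ + e, k + M * e₀ + D, z m, w' * T, hden, (z m).2,
    SetLike.mul_mem_graded hw'm hTD, by push_cast; omega, rfl⟩, fun m => Subtype.ext ?_, hα⟩
  rw [hqb m, mk_eq_mk_mul hT hw'x hden (mul_comm _ _), mul_comm (b m)]
  refine Eq.trans ?_ (Submodule.coe_sum _ _ _).symm
  simp only [Submodule.coe_smul, smul_mk', sum_mk]
  congr 1
  have := congrArg Subtype.val (hz m)
  rw [Submodule.coe_sum] at this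
  simpa using this

end Groth.L06.RelProjFlat
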